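import Groth.Agent.GroupPtsLib.Torsion

/-!
# Groups of rational points of affine algebraic groups, classically

A group with a finitely generated algebra of functions which is stable under translations and inversion,
locally finite for translations, and all of whose characters are evaluations.
-/

set_option autoImplicit false
universe u

open TopologicalSpace Topology

noncomputable section

namespace Groth.Agent.GroupPtsLib

/-- An algebraic structure on an abstract group, through its algebra of regular functions. -/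
structure AlgPts (k : Type u) [Field k] (Γ : Type u) [Group Γ] where
  /-- The regular functions. -/
  F : Subalgebra k (Γ → k)
  fg : F.FG
  rTr : ∀ g : Γ, ∀ φ ∈ F, (fun x => φ (x * g)) ∈ F
  lTr : ∀ g : Γ, ∀ φ ∈ F, (fun x => φ (g * x)) ∈ F
  inv : ∀ φ ∈ F, (fun x => φ x⁻¹) ∈ F
  locFin : ∀ φ ∈ F, ∃ s : Finset (Γ → k), ∀ g : Γ, (fun x => φ (x * g)) ∈ Submodule.span k (s : Set (Γ → k))
  point : ∀ θ : F →ₐ[k] k, ∃ g : Γ, ∀ φ : F, θ φ = (φ : Γ → k) g

namespace AlgPts

variable {k : Type u} [Field k] {Γ : Type u} [Group Γ] (G : AlgPts k Γ)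

/-- Evaluation. -/
def ev (g : Γ) : G.F →ₐ[k] k := (Pi.evalAlgHom k (fun _ : Γ => k) g).comp G.F.val

theorem ev_apply (g : Γ) (φ : G.F) : G.ev g φ = (φ : Γ → k) g := rfl

/-- The prime of a point. -/
def prime (g : Γ) : PrimeSpectrum G.F := ⟨RingHom.ker (G.ev g), RingHom.ker_isPrime _⟩

/-- The Zariski topology. -/
@[instance_reducible] def zar : TopologicalSpace Γ := TopologicalSpace.induced G.prime inferInstance

theorem isClosed_iff {S : Set Γ} :
    IsClosed[G.zar] S ↔ ∀ x, (∀ φ : G.F, (∀ g ∈ S, (φ : Γ → k) g = 0) → (φ : Γ → k) x = 0) → x ∈ S := by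
  letI := G.zar
  have hind : Topology.IsInducing G.prime := ⟨rfl⟩
  have hcl : ∀ T : Set Γ, ∀ x, x ∈ closure T ↔
      ∀ φ : G.F, (∀ g ∈ T, (φ : Γ → k) g = 0) → (φ : Γ → k) x = 0 := by
    intro T x
    rw [hind.closure_eq_preimage_closure_image, Set.mem_preimage, ← PrimeSpectrum.zeroLocus_vanishingIdeal_eq_closure,
      PrimeSpectrum.mem_zeroLocus, SetLike.coe_subset_coe]
    constructor
    · intro h φ hφ
      exact h ((PrimeSpectrum.mem_vanishingIdeal _ _).2 (by rintro _ ⟨g, hg, rfl⟩; exact hφ g hg))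
    · intro h φ hφ
      refine h φ fun g hg => ?_
      exact (PrimeSpectrum.mem_vanishingIdeal _ _).1 hφ _ ⟨g, hg, rfl⟩
  refine ⟨fun h x hx => h.closure_eq ▸ (hcl S x).2 hx, fun h => ?_⟩
  exact isClosed_of_closure_subset fun x hx => h x ((hcl S x).1 hx)

theorem continuous_of_regular {f : Γ → Γ} (hf : ∀ φ ∈ G.F, (fun x => φ (f x)) ∈ G.F) :
    Continuous[G.zar, G.zar] f := by
  let σ : G.F →+* G.F :=
    { toFun := fun φ => ⟨fun x => (φ : Γ → k) (f x), hf _ φ.2⟩
      map_one' := rfl, map_mul' := fun _ _ => rfl, map_zero' := rfl, map_add' := fun _ _ => rfl }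
  letI := G.zar
  have hind : Topology.IsInducing G.prime := ⟨rfl⟩
  rw [hind.continuous_iff, show G.prime ∘ f = PrimeSpectrum.comap σ ∘ G.prime from funext fun x => by
    refine PrimeSpectrum.ext (Ideal.ext fun φ => ?_); rfl]
  exact (PrimeSpectrum.continuous_comap σ).comp hind.continuous

theorem continuous_mul_right' (g : Γ) : Continuous[G.zar, G.zar] (fun x => x * g) :=
  G.continuous_of_regular fun φ hφ => G.rTr g φ hφ

theorem continuous_mul_left' (g : Γ) : Continuous[G.zar, G.zar] (fun x => g * x) :=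
  G.continuous_of_regular fun φ hφ => G.lTr g φ hφ

theorem continuous_inv' : Continuous[G.zar, G.zar] (fun x : Γ => x⁻¹) :=
  G.continuous_of_regular fun φ hφ => G.inv φ hφ

theorem noetherianSpace : @NoetherianSpace Γ G.zar := by
  letI := G.zar
  haveI : Algebra.FiniteType k G.F := (Subalgebra.fg_iff_finiteType G.F).1 G.fg
  haveI : IsNoetherianRing G.F := Algebra.FiniteType.isNoetherianRing k G.F
  exact (Topology.IsInducing.noetherianSpace (i := G.prime) ⟨rfl⟩)

theorem exists_dim_bound : ∃ N : ℕ, ∀ C : @IrreducibleCloseds Γ G.zar, Order.height C ≤ (N : ℕ∞) := by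
  letI := G.zar
  haveI : Algebra.FiniteType k G.F := (Subalgebra.fg_iff_finiteType G.F).1 G.fg
  obtain ⟨N, π, hπ⟩ := Algebra.FiniteType.iff_quotient_mvPolynomial''.1 (inferInstance : Algebra.FiniteType k G.F)
  refine ⟨N, fun C => ?_⟩
  have h1 : topologicalKrullDim Γ ≤ topologicalKrullDim (PrimeSpectrum G.F) :=
    Topology.IsInducing.topologicalKrullDim_le (f := G.prime) ⟨rfl⟩
  rw [PrimeSpectrum.topologicalKrullDim_eq_ringKrullDim] at h1
  have h2 : ringKrullDim G.F ≤ ringKrullDim (MvPolynomial (Fin N) k) :=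
    ringKrullDim_le_of_surjective π.toRingHom hπ
  rw [MvPolynomial.ringKrullDim_of_isNoetherianRing, ringKrullDim_eq_zero_of_field, zero_add] at h2
  have h3 := (Order.height_le_krullDim C).trans (h1.trans h2)
  exact WithBot.coe_le_coe.1 (h3.trans (by simp))

/-- Every linear functional on a finite-dimensional space of functions is regular in the translation. -/
theorem coord_rTr_mem (V : Submodule k (Γ → k)) [Module.Finite k V] (hV : V ≤ Subalgebra.toSubmodule G.F)
    (hVs : ∀ g, ∀ φ ∈ V, (fun x => φ (x * g)) ∈ V) (ξ : V →ₗ[k] k) (w : V) :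
    (fun g => ξ ⟨_, hVs g w.1 w.2⟩) ∈ G.F := by
  let e : Γ → Module.Dual k V := fun x => (LinearMap.proj x : (Γ → k) →ₗ[k] k) ∘ₗ V.subtype
  have hspan : Submodule.span k (Set.range e) = ⊤ := by
    by_contra hne
    obtain ⟨z, hz, hz0⟩ := Submodule.exists_dual_map_eq_bot_of_lt_top (lt_top_iff_ne_top.2 hne) inferInstance
    obtain ⟨v, rfl⟩ := (Module.evalEquiv k V).surjective z
    have hv : v = 0 := by
      refine Subtype.ext (funext fun x => ?_)
      have hx : e x ∈ Submodule.span k (Set.range e) := Submodule.subset_span ⟨x, rfl⟩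
      have h1 := Submodule.mem_map_of_mem (f := Module.evalEquiv k V v) hx
      erw [hz0, Submodule.mem_bot] at h1
      simpa [e, Module.evalEquiv_apply, Module.Dual.eval_apply] using h1
    exact hz (by rw [hv, map_zero])
  have hξ : ξ ∈ Submodule.span k (Set.range e) := hspan ▸ Submodule.mem_top
  induction hξ using Submodule.span_induction with
  | mem y hy =>
    obtain ⟨x, rfl⟩ := hy
    exact G.lTr x w.1 (hV w.2)
  | zero => exact G.F.zero_mem
  | add a b _ _ ha hb => exact G.F.add_mem ha hb
  | smul c a _ ha => exact G.F.smul_mem ha c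

end AlgPts

end Groth.Agent.GroupPtsLib
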