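import Groth.Agent.GroupPtsLib.Basic

/-!
# A representation with kernel inside a normal closed subgroup
-/

set_option autoImplicit false
universe u

open TopologicalSpace Topology

noncomputable section

namespace Groth.Agent.GroupPtsLib

variable {k : Type u} [Field k] {N d : ℕ}

/-- The vector of maximal minors. -/
def plucker (B : Matrix (Fin N) (Fin d) k) : (Fin d → Fin N) → k := fun S => (B.submatrix S id).det

theorem det_mul_expand (A : Matrix (Fin d) (Fin N) k) (B : Matrix (Fin N) (Fin d) k) :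
    (A * B).det = ∑ s : Fin d → Fin N, (∏ i, A i (s i)) * (B.submatrix s id).det := by
  classical
  have h : (A * B).det = Matrix.detRowAlternating.toMultilinearMap (fun i => ∑ l, A i l • B l) := by
    have e : (A * B : Matrix (Fin d) (Fin d) k) = fun i => ∑ l, A i l • B l := by
      funext i c
      simp [Matrix.mul_apply]
    show Matrix.detRowAlternating (A * B) = _
    rw [e]
    rfl
  rw [h, MultilinearMap.map_sum]
  refine Finset.sum_congr rfl fun s _ => ?_
  rw [MultilinearMap.map_smul_univ, smul_eq_mul]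
  rfl

/-- The `d`-th tensor power of a matrix. -/
def tpow (R : Matrix (Fin N) (Fin N) k) : Matrix (Fin d → Fin N) (Fin d → Fin N) k :=
  Matrix.of fun S S' => ∏ i, R (S i) (S' i)

theorem tpow_one : tpow (d := d) (1 : Matrix (Fin N) (Fin N) k) = 1 := by
  ext S S'
  by_cases h : S = S'
  · subst h; simp [tpow]
  · obtain ⟨i, hi⟩ := Function.ne_iff.1 h
    simp only [tpow, Matrix.of_apply, Matrix.one_apply_ne h]
    exact Finset.prod_eq_zero (Finset.mem_univ i) (Matrix.one_apply_ne hi)

theorem tpow_mul (R R' : Matrix (Fin N) (Fin N) k) : tpow (d := d) (R * R') = tpow R * tpow R' := by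
  ext S S''
  simp only [tpow, Matrix.of_apply, Matrix.mul_apply, Fintype.prod_sum, Finset.prod_mul_distrib]

theorem tpow_plucker (R : Matrix (Fin N) (Fin N) k) (B : Matrix (Fin N) (Fin d) k) :
    Matrix.mulVec (tpow R) (plucker B) = plucker (R * B) := by
  funext S
  rw [plucker, show ((R * B).submatrix S id) = R.submatrix S id * B from rfl, det_mul_expand]
  rfl

theorem plucker_mul (B : Matrix (Fin N) (Fin d) k) (M : Matrix (Fin d) (Fin d) k) :
    plucker (B * M) = M.det • plucker B := by
  funext S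
  rw [plucker, show ((B * M).submatrix S id) = B.submatrix S id * M from rfl, Matrix.det_mul, Pi.smul_apply,
    smul_eq_mul, mul_comm]
  rfl

/-- The linear relations attached to a vector of minors. -/
def relKer (v : (Fin d → Fin N) → k) : Submodule k (Fin N → k) where
  carrier := {x | ∀ S : Fin (d + 1) → Fin N, ∑ i : Fin (d + 1), (-1 : k) ^ (i : ℕ) * x (S i) * v (S ∘ i.succAbove) = 0}
  zero_mem' := fun S => by simp
  add_mem' := fun {a b} ha hb S => by
    simp only [Pi.add_apply, mul_add, add_mul, Finset.sum_add_distrib, ha S, hb S, add_zero]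
  smul_mem' := fun c a ha S => by
    simp only [Pi.smul_apply, smul_eq_mul]
    calc _ = c * ∑ i : Fin (d + 1), (-1 : k) ^ (i : ℕ) * a (S i) * v (S ∘ i.succAbove) := by
          rw [Finset.mul_sum]; exact Finset.sum_congr rfl fun i _ => by ring
      _ = 0 := by rw [ha S, mul_zero]

theorem col_mem_relKer (B : Matrix (Fin N) (Fin d) k) (j : Fin d) : (fun r => B r j) ∈ relKer (plucker B) := by
  intro S
  let M : Matrix (Fin (d + 1)) (Fin (d + 1)) k :=
    Matrix.of fun i c => (Fin.cons (B (S i) j) (fun c' => B (S i) c') : Fin (d + 1) → k) c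
  have hM : M.det = 0 := Matrix.det_zero_of_column_eq (i := 0) (j := j.succ) (Fin.succ_ne_zero j).symm
    fun i => by simp [M]
  rw [Matrix.det_succ_column_zero] at hM
  rw [← hM]
  refine Finset.sum_congr rfl fun i _ => ?_
  simp only [M, Matrix.of_apply, Fin.cons_zero, plucker]
  congr 1

theorem relKer_eq (B : Matrix (Fin N) (Fin d) k) (hB : LinearIndependent k fun j => fun r => B r j) :
    relKer (plucker B) = Submodule.span k (Set.range fun j => fun r => B r j) := by
  classical
  obtain ⟨S₀, hS₀⟩ : ∃ S₀, plucker B S₀ ≠ 0 := by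
    by_contra! hall
    obtain ⟨L, hL⟩ := (B.mulVecLin).exists_leftInverse_of_injective
      (LinearMap.ker_eq_bot.2 (Matrix.mulVec_injective_iff.2 hB))
    have h1 : LinearMap.toMatrix' L * B = 1 := by
      rw [← LinearMap.toMatrix'_id, ← hL, LinearMap.toMatrix'_comp]
      rw [← Matrix.toLin'_apply', LinearMap.toMatrix'_toLin']
    have h2 := congrArg Matrix.det h1
    rw [det_mul_expand, Matrix.det_one, Finset.sum_eq_zero fun s _ => ?_] at h2
    · exact zero_ne_one h2
    · rw [show (B.submatrix s id).det = 0 from hall s, mul_zero]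
  refine (Submodule.eq_of_le_of_finrank_le (Submodule.span_le.2 ?_) ?_).symm
  · rintro _ ⟨j, rfl⟩; exact col_mem_relKer B j
  rw [finrank_span_eq_card hB, Fintype.card_fin]
  let r : relKer (plucker B) →ₗ[k] (Fin d → k) :=
    LinearMap.pi fun a => (LinearMap.proj (S₀ a) : (Fin N → k) →ₗ[k] k) ∘ₗ (relKer (plucker B)).subtype
  have hr : Function.Injective r := by
    rw [← LinearMap.ker_eq_bot, Submodule.eq_bot_iff]
    intro x hx
    refine Subtype.ext (funext fun a => ?_)
    have h := x.2 (Fin.cons a S₀)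
    rw [Fin.sum_univ_succ, Finset.sum_eq_zero fun i _ => ?_] at h
    · simp only [Fin.val_zero, pow_zero, one_mul, Fin.cons_zero, add_zero] at h
      rw [show (Fin.cons a S₀ : Fin (d + 1) → Fin N) ∘ (0 : Fin (d + 1)).succAbove = S₀ from funext fun i => by simp] at h
      exact (mul_eq_zero.1 h).resolve_right hS₀
    · have : (x : Fin N → k) (S₀ i) = 0 := congrFun hx i
      simp [this]
  exact (LinearMap.finrank_le_finrank_of_injective hr).trans (Module.finrank_fin_fun k).le

theorem relKer_smul {c : k} (hc : c ≠ 0) (v : (Fin d → Fin N) → k) : relKer (c • v) = relKer v := by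
  ext x
  refine forall_congr' fun S => ?_
  have : ∑ i : Fin (d + 1), (-1 : k) ^ (i : ℕ) * x (S i) * (c • v) (S ∘ i.succAbove) =
      c * ∑ i : Fin (d + 1), (-1 : k) ^ (i : ℕ) * x (S i) * v (S ∘ i.succAbove) := by
    rw [Finset.mul_sum]
    exact Finset.sum_congr rfl fun i _ => by simp only [Pi.smul_apply, smul_eq_mul]; ring
  rw [this, mul_eq_zero, or_iff_right hc]

variable {Γ : Type u} [Group Γ] (G : AlgPts k Γ)

theorem mem_span_of_disjoint_char {E : Type*} [AddCommGroup E] [Module k E] [Module.Finite k E] {ι : Type*}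
    (T : Γ → E →ₗ[k] E) (H : Set Γ) (χ : Γ → k) (v : E) (hv0 : v ≠ 0) (hv : ∀ h ∈ H, T h v = χ h • v)
    (w : ι → E) (ψ : ι → Γ → k) (hw : ∀ i, ∀ h ∈ H, T h (w i) = ψ i h • w i) (hne : ∀ i, ∃ h ∈ H, ψ i h ≠ χ h) :
    v ∉ Submodule.span k (Set.range w) := by
  intro hmem
  obtain ⟨κ, b, -, hspan, hli⟩ := exists_linearIndependent' k w
  haveI : Finite κ := hli.finite
  letI := Fintype.ofFinite κ
  rw [← hspan] at hmem
  obtain ⟨c, hc⟩ := (Submodule.mem_span_range_iff_exists_fun k).1 hmem
  refine hv0 ?_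
  rw [← hc]
  refine Finset.sum_eq_zero fun i _ => ?_
  obtain ⟨h, hh, hne'⟩ := hne (b i)
  have h1 := hv h hh
  rw [← hc, map_sum, Finset.smul_sum] at h1
  have h2 : ∑ j, (c j * ψ (b j) h - χ h * c j) • (w ∘ b) j = 0 := by
    rw [← sub_eq_zero, ← Finset.sum_sub_distrib] at h1
    rw [← h1]
    refine Finset.sum_congr rfl fun j _ => ?_
    rw [map_smul, Function.comp_apply, hw (b j) h hh, smul_smul, smul_smul, sub_smul]
  have h3 := Fintype.linearIndependent_iff.1 hli _ h2 i
  rw [mul_comm (χ h), ← mul_sub, mul_eq_zero] at h3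
  rw [h3.resolve_right (sub_ne_zero.2 hne'), zero_smul]

set_option maxHeartbeats 1600000 in
theorem exists_rep (C₀ : Subgroup Γ) (hclosed : IsClosed[G.zar] (C₀ : Set Γ)) (hnormal : C₀.Normal) :
    ∃ (D : ℕ) (ρ : Γ →* Matrix (Fin D) (Fin D) k), (fun g => (ρ g).trace) ∈ G.F ∧
      (∀ c ∈ C₀, ρ c = 1) ∧ ∀ g, ρ g = 1 → g ∈ C₀ := by
  classical
  haveI : Algebra.FiniteType k G.F := (Subalgebra.fg_iff_finiteType G.F).1 G.fg
  haveI : IsNoetherianRing G.F := Algebra.FiniteType.isNoetherianRing k G.F
  let J : Ideal G.F := ⨅ c : C₀, RingHom.ker (G.ev c)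
  obtain ⟨gens, hgens⟩ := IsNoetherian.noetherian J
  choose s hs using fun φ : G.F => G.locFin φ.1 φ.2
  let V : Submodule k (Γ → k) :=
    Submodule.span k {ψ | ∃ φ ∈ gens, ∃ g, ψ = fun x => (φ : Γ → k) (x * g)}
  haveI : Module.Finite k V := by
    have hle : V ≤ Submodule.span k ((gens.biUnion s : Finset (Γ → k)) : Set (Γ → k)) := Submodule.span_le.2 (by
      rintro _ ⟨φ, hφ, g, rfl⟩
      refine Submodule.span_mono ?_ (hs φ g)
      exact Finset.coe_subset.2 (Finset.subset_biUnion_of_mem s hφ))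
    haveI : Module.Finite k (Submodule.span k ((gens.biUnion s : Finset (Γ → k)) : Set (Γ → k))) :=
      Module.Finite.span_of_finite k (Finset.finite_toSet _)
    exact Module.Finite.of_injective (Submodule.inclusion hle) (Submodule.inclusion_injective hle)
  have hVF : V ≤ Subalgebra.toSubmodule G.F := Submodule.span_le.2 (by
    rintro _ ⟨φ, -, g, rfl⟩
    exact G.rTr g _ φ.2)
  let tr : Γ → (Γ → k) →ₗ[k] (Γ → k) := fun g => LinearMap.funLeft k k (fun x => x * g)
  have hVs : ∀ g, ∀ φ ∈ V, (fun x => φ (x * g)) ∈ V := by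
    intro g φ hφ
    show tr g φ ∈ V
    induction hφ using Submodule.span_induction with
    | mem y hy =>
      obtain ⟨φ', hφ', g', rfl⟩ := hy
      exact Submodule.subset_span ⟨φ', hφ', g * g', funext fun x => by
        simp [tr, LinearMap.funLeft_apply, mul_assoc]⟩
    | zero => simp
    | add a b _ _ ha hb => rw [map_add]; exact add_mem ha hb
    | smul c a _ ha => rw [map_smul]; exact Submodule.smul_mem _ c ha
  let R : Γ → V →ₗ[k] V := fun g => (tr g).restrict (hVs g)
  have R_apply : ∀ g (φ : V) x, (R g φ).1 x = φ.1 (x * g) := fun g φ x => rfl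
  let eb := Module.finBasis k V
  let N := Module.finrank k V
  let Rm : Γ → Matrix (Fin N) (Fin N) k := fun g => LinearMap.toMatrix eb eb (R g)
  have Rm_one : Rm 1 = 1 := by
    rw [show Rm 1 = LinearMap.toMatrix eb eb (R 1) from rfl, ← LinearMap.toMatrix_id eb]
    congr 1
    exact LinearMap.ext fun φ => Subtype.ext (funext fun x => by rw [R_apply, mul_one]; rfl)
  have Rm_mul : ∀ g h, Rm (g * h) = Rm g * Rm h := fun g h => by
    simp only [Rm]
    rw [← LinearMap.toMatrix_comp eb eb eb]
    congr 1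
    exact LinearMap.ext fun φ => Subtype.ext (funext fun x => by
      rw [LinearMap.comp_apply, R_apply, R_apply, R_apply, mul_assoc])
  have Rm_mem : ∀ a b, (fun g => Rm g a b) ∈ G.F := fun a b => by
    have := G.coord_rTr_mem V hVF hVs (eb.coord a) (eb b)
    convert this using 1
    funext g
    exact LinearMap.toMatrix_apply eb eb (R g) a b
  -- the subspace of functions vanishing on `C₀`
  let W : Submodule k (Fin N → k) := ⨅ c : C₀,
    LinearMap.ker ((LinearMap.proj (c : Γ) : (Γ → k) →ₗ[k] k) ∘ₗ V.subtype ∘ₗ eb.equivFun.symm.toLinearMap)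
  have hW : ∀ x : Fin N → k, x ∈ W ↔ ∀ c ∈ C₀, (eb.equivFun.symm x).1 c = 0 := fun x => by
    simp only [W, Submodule.mem_iInf, LinearMap.mem_ker, Subtype.forall]
    rfl
  have hRm : ∀ g (x : Fin N → k), eb.equivFun.symm (Matrix.mulVec (Rm g) x) = R g (eb.equivFun.symm x) := by
    intro g x
    apply eb.equivFun.injective
    rw [LinearEquiv.apply_symm_apply]
    have h := LinearMap.toMatrix_mulVec_repr eb eb (R g) (eb.equivFun.symm x)
    rw [show (eb.repr (eb.equivFun.symm x) : Fin N → k) = x from eb.equivFun.apply_symm_apply x] at h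
    exact h
  have hWC : ∀ c ∈ C₀, ∀ x ∈ W, Matrix.mulVec (Rm c) x ∈ W := by
    intro c hc x hx
    rw [hW] at hx ⊢
    intro c' hc'
    rw [hRm, R_apply]
    exact hx _ (mul_mem hc' hc)
  have hstab : ∀ g, (∀ x ∈ W, Matrix.mulVec (Rm g) x ∈ W) → g ∈ C₀ := by
    intro g hg
    have hgen : ∀ φ ∈ gens, (φ : Γ → k) g = 0 := by
      intro φ hφ
      have hφV : (φ : Γ → k) ∈ V := Submodule.subset_span ⟨φ, hφ, 1, by simp⟩
      have hJ : φ ∈ J := hgens ▸ Ideal.subset_span hφ
      simp only [J, Submodule.mem_iInf, RingHom.mem_ker, Subtype.forall] at hJ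
      have hxW : eb.equivFun ⟨_, hφV⟩ ∈ W := by
        rw [hW]; intro c hc
        rw [LinearEquiv.symm_apply_apply]
        exact hJ c hc
      have := (hW _).1 (hg _ hxW) 1 (one_mem _)
      rwa [hRm, LinearEquiv.symm_apply_apply, R_apply, one_mul] at this
    refine (G.isClosed_iff.1 hclosed) g fun φ hφ => ?_
    have hJ : φ ∈ J := by
      simp only [J, Submodule.mem_iInf, RingHom.mem_ker, Subtype.forall]
      exact hφ
    have hle : J ≤ RingHom.ker (G.ev g) := hgens ▸ Ideal.span_le.2 hgen
    exact hle hJ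
  let wb := Module.finBasis k W
  let d := Module.finrank k W
  let B : Matrix (Fin N) (Fin d) k := Matrix.of fun r j => (wb j).1 r
  have hBli : LinearIndependent k fun j => fun r => B r j := wb.linearIndependent.map' W.subtype W.ker_subtype
  have hBspan : Submodule.span k (Set.range fun j => fun r => B r j) = W := by
    rw [show (Set.range fun j => fun r => B r j) = W.subtype '' Set.range wb from by
      rw [← Set.range_comp]; rfl, Submodule.span_image, wb.span_eq, Submodule.map_subtype_top]
  let T : Γ → Matrix (Fin d → Fin N) (Fin d → Fin N) k := fun g => tpow (Rm g)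
  have T_one : T 1 = 1 := by simp only [T, Rm_one, tpow_one]
  have T_mul : ∀ g h, T (g * h) = T g * T h := fun g h => by simp only [T, Rm_mul, tpow_mul]
  have T_mem : ∀ S S', (fun g => T g S S') ∈ G.F := fun S S' => by
    have := G.F.prod_mem (t := Finset.univ) (f := fun i => fun g => Rm g (S i) (S' i)) fun i _ => Rm_mem _ _
    convert this using 1
    funext g
    simp [T, tpow, Finset.prod_apply]
  set v := plucker B with hvdef
  have hv0 : v ≠ 0 := by
    intro h0
    have h := relKer_eq B hBli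
    rw [← hvdef, h0, hBspan] at h
    have htop : W = ⊤ := by
      rw [← h]
      exact eq_top_iff.2 fun x _ S => by simp
    have hcard : d = N := by
      show Module.finrank k W = N
      rw [htop, finrank_top, Module.finrank_fin_fun]
    have := congrFun h0 fun j => Fin.cast hcard j
    rw [hvdef, plucker, Pi.zero_apply] at this
    have hu : IsUnit (B.submatrix (fun j => Fin.cast hcard j) id) := by
      rw [← Matrix.linearIndependent_cols_iff_isUnit]
      exact hBli.map' (LinearMap.funLeft k k (fun j : Fin d => Fin.cast hcard j))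
        (LinearMap.ker_eq_bot.2 (LinearMap.funLeft_injective_of_surjective _ _ _ (finCongr hcard).surjective))
    exact ((Matrix.isUnit_iff_isUnit_det _).1 hu).ne_zero this
  have heig : ∀ c ∈ C₀, ∃ t : k, Matrix.mulVec (T c) v = t • v := by
    intro c hc
    have h1 : ∀ j, ∃ m : Fin d → k, Matrix.mulVec B m = Matrix.mulVec (Rm c) (fun r => B r j) := by
      intro j
      have h2 : Matrix.mulVec (Rm c) (fun r => B r j) ∈ W := hWC c hc _ (wb j).2
      rw [← hBspan, Submodule.mem_span_range_iff_exists_fun] at h2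
      obtain ⟨m, hm⟩ := h2
      refine ⟨m, ?_⟩
      rw [← hm]
      funext r
      simp only [Matrix.mulVec, dotProduct, Finset.sum_apply, Pi.smul_apply, smul_eq_mul]
      exact Finset.sum_congr rfl fun a _ => mul_comm _ _
    choose m hm using h1
    refine ⟨(Matrix.of fun a j => m j a).det, ?_⟩
    rw [hvdef, tpow_plucker, ← plucker_mul]
    congr 1
    ext r j
    exact (congrFun (hm j) r).symm
  choose χ hχ using heig
  have hconj : ∀ g, ∀ c ∈ C₀, g⁻¹ * c * g ∈ C₀ := fun g c hc => by
    simpa using hnormal.conj_mem c hc g⁻¹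
  have hchar : ∀ g c (hc : c ∈ C₀),
      Matrix.mulVec (T c) (Matrix.mulVec (T g) v) = χ _ (hconj g c hc) • Matrix.mulVec (T g) v := by
    intro g c hc
    rw [Matrix.mulVec_mulVec, ← T_mul, show c * g = g * (g⁻¹ * c * g) by group, T_mul, ← Matrix.mulVec_mulVec,
      hχ, Matrix.mulVec_smul]
  -- the span of the orbit of `v`
  let V' : Submodule k ((Fin d → Fin N) → k) := Submodule.span k (Set.range fun g => Matrix.mulVec (T g) v)
  have hV's : ∀ g, ∀ x ∈ V', Matrix.mulVecLin (T g) x ∈ V' := by
    intro g x hx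
    induction hx using Submodule.span_induction with
    | mem y hy =>
      obtain ⟨g', rfl⟩ := hy
      exact Submodule.subset_span ⟨g * g', by simp [T_mul, Matrix.mulVec_mulVec]⟩
    | zero => simp
    | add a b _ _ ha hb => rw [map_add]; exact add_mem ha hb
    | smul c a _ ha => rw [map_smul]; exact Submodule.smul_mem _ c ha
  let T' : Γ → V' →ₗ[k] V' := fun g => (Matrix.mulVecLin (T g)).restrict (hV's g)
  have T'_one : T' 1 = LinearMap.id := LinearMap.ext fun x => Subtype.ext (by
    show Matrix.mulVec (T 1) x.1 = x.1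
    rw [T_one, Matrix.one_mulVec])
  have T'_mul : ∀ g h, T' (g * h) = T' g ∘ₗ T' h := fun g h => LinearMap.ext fun x => Subtype.ext (by
    show Matrix.mulVec (T (g * h)) x.1 = Matrix.mulVec (T g) (Matrix.mulVec (T h) x.1)
    rw [T_mul, Matrix.mulVec_mulVec])
  let u := Module.finBasis k V'
  let D' := Module.finrank k V'
  let Tm : Γ → Matrix (Fin D') (Fin D') k := fun g => LinearMap.toMatrix u u (T' g)
  have Tm_one : Tm 1 = 1 := by simp only [Tm, T'_one, LinearMap.toMatrix_id]
  have Tm_mul : ∀ g h, Tm (g * h) = Tm g * Tm h := fun g h => by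
    simp only [Tm, T'_mul, LinearMap.toMatrix_comp u u u]
  have Tm_inv : ∀ g, Tm g⁻¹ * Tm g = 1 ∧ Tm g * Tm g⁻¹ = 1 := fun g => by
    constructor <;> rw [← Tm_mul] <;> simp [Tm_one]
  have Tm_mem : ∀ a b, (fun g => Tm g a b) ∈ G.F := by
    intro a b
    obtain ⟨ξ, hξ⟩ := LinearMap.exists_extend (u.coord a)
    have h1 : ∀ g, Tm g a b = ∑ S, ξ (Pi.single S 1) * ∑ S', T g S S' * (u b).1 S' := by
      intro g
      have h2 : Tm g a b = ξ (Matrix.mulVec (T g) (u b).1) := by
        rw [show Tm g a b = u.coord a (T' g (u b)) from LinearMap.toMatrix_apply u u (T' g) a b, ← hξ]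
        rfl
      rw [h2]
      conv_lhs => rw [← Finset.univ_sum_single (Matrix.mulVec (T g) (u b).1), map_sum]
      refine Finset.sum_congr rfl fun S _ => ?_
      rw [show (Pi.single S (Matrix.mulVec (T g) (u b).1 S) : (Fin d → Fin N) → k) =
        (Matrix.mulVec (T g) (u b).1 S) • Pi.single S 1 by simp [← Pi.single_smul], map_smul, smul_eq_mul, mul_comm]
      rfl
    rw [show (fun g => Tm g a b) = fun g => ∑ S, ξ (Pi.single S 1) * ∑ S', T g S S' * (u b).1 S' from funext h1]
    have := G.F.sum_mem (t := Finset.univ) (f := fun S => ξ (Pi.single S 1) •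
      ∑ S', (u b).1 S' • fun g => T g S S') fun S _ => G.F.smul_mem (G.F.sum_mem fun S' _ => G.F.smul_mem (T_mem S S') _) _
    convert this using 1
    funext g
    simp only [Finset.sum_apply, Pi.smul_apply, smul_eq_mul]
    exact Finset.sum_congr rfl fun S _ => congrArg (_ * ·) (Finset.sum_congr rfl fun S' _ => mul_comm _ _)
  -- the centraliser of `C₀`
  let Cent : Submodule k (Matrix (Fin D') (Fin D') k) :=
    { carrier := {X | ∀ c ∈ C₀, Tm c * X = X * Tm c}
      zero_mem' := fun c _ => by simp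
      add_mem' := fun {a b} ha hb c hc => by rw [mul_add, add_mul, ha c hc, hb c hc]
      smul_mem' := fun t a ha c hc => by rw [Matrix.mul_smul, Matrix.smul_mul, ha c hc] }
  let conj : Γ → Matrix (Fin D') (Fin D') k →ₗ[k] Matrix (Fin D') (Fin D') k := fun g =>
    { toFun := fun X => Tm g * X * Tm g⁻¹
      map_add' := fun X Y => by rw [mul_add, add_mul]
      map_smul' := fun t X => by rw [Matrix.mul_smul, Matrix.smul_mul]; rfl }
  have conj_apply : ∀ g X, conj g X = Tm g * X * Tm g⁻¹ := fun _ _ => rfl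
  have hCent : ∀ g, ∀ X ∈ Cent, conj g X ∈ Cent := by
    intro g X hX c hc
    have hc' := hX _ (hconj g c hc)
    simp only [Tm_mul] at hc'
    rw [conj_apply]
    calc Tm c * (Tm g * X * Tm g⁻¹) = (Tm g * Tm g⁻¹) * Tm c * (Tm g * X * Tm g⁻¹) := by
          rw [(Tm_inv g).2, one_mul]
      _ = Tm g * (Tm g⁻¹ * Tm c * Tm g * X) * Tm g⁻¹ := by simp only [mul_assoc]
      _ = Tm g * (X * (Tm g⁻¹ * Tm c * Tm g)) * Tm g⁻¹ := by rw [hc']
      _ = Tm g * X * Tm g⁻¹ * Tm c * (Tm g * Tm g⁻¹) := by simp only [mul_assoc]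
      _ = _ := by rw [(Tm_inv g).2, mul_one]
  let cb := Module.finBasis k Cent
  let ρ₀ : Γ → Cent →ₗ[k] Cent := fun g => (conj g).restrict (hCent g)
  let ρ : Γ →* Matrix (Fin (Module.finrank k Cent)) (Fin (Module.finrank k Cent)) k :=
    { toFun := fun g => LinearMap.toMatrix cb cb (ρ₀ g)
      map_one' := by
        rw [← LinearMap.toMatrix_id cb]
        congr 1
        refine LinearMap.ext fun X => Subtype.ext ?_
        show Tm 1 * X.1 * Tm 1⁻¹ = X.1
        simp [Tm_one]
      map_mul' := fun g h => by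
        rw [← LinearMap.toMatrix_comp cb cb cb]
        congr 1
        refine LinearMap.ext fun X => Subtype.ext ?_
        show Tm (g * h) * X.1 * Tm (g * h)⁻¹ = Tm g * (Tm h * X.1 * Tm h⁻¹) * Tm g⁻¹
        simp only [mul_inv_rev, Tm_mul, mul_assoc] }
  have hρ1 : ∀ g, ρ g = 1 → ∀ X ∈ Cent, Tm g * X = X * Tm g := by
    intro g hg X hX
    have h0 : ρ₀ g = LinearMap.id := (LinearMap.toMatrix cb cb).injective (by rw [LinearMap.toMatrix_id]; exact hg)
    have h1 : Tm g * X * Tm g⁻¹ = X := congrArg Subtype.val (LinearMap.congr_fun h0 ⟨X, hX⟩)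
    conv_rhs => rw [← h1]
    rw [mul_assoc, mul_assoc, (Tm_inv g).1, mul_one]
  refine ⟨_, ρ, ?_, fun c hc => ?_, fun g hg => ?_⟩
  · -- regularity of the trace
    choose η hη using fun i => LinearMap.exists_extend (cb.coord i)
    have h1 : ∀ g, (ρ g).trace = ∑ i, ∑ a, ∑ b, η i (Matrix.single a b 1) * (conj g (cb i).1 a b) := by
      intro g
      refine Finset.sum_congr rfl fun i _ => ?_
      rw [Matrix.diag_apply, show ρ g i i = cb.coord i (ρ₀ g (cb i)) from LinearMap.toMatrix_apply cb cb (ρ₀ g) i i,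
        ← hη i]
      show η i (conj g (cb i).1) = _
      conv_lhs => rw [Matrix.matrix_eq_sum_single (conj g (cb i).1)]
      rw [map_sum]
      refine Finset.sum_congr rfl fun a _ => ?_
      rw [map_sum]
      refine Finset.sum_congr rfl fun b _ => ?_
      rw [show Matrix.single a b (conj g (cb i).1 a b) = (conj g (cb i).1 a b) • Matrix.single a b (1 : k) by
        rw [Matrix.smul_single, smul_eq_mul, mul_one], map_smul, smul_eq_mul, mul_comm]
    rw [show (fun g => (ρ g).trace) = fun g => ∑ i, ∑ a, ∑ b, η i (Matrix.single a b 1) *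
      ∑ y, (∑ x, Tm g a x * (cb i).1 x y) * Tm g⁻¹ y b from funext fun g => by
        rw [h1 g]; simp only [conj_apply, Matrix.mul_apply]]
    have := G.F.sum_mem (t := Finset.univ) (f := fun i => ∑ a, ∑ b, η i (Matrix.single a b 1) •
      ∑ y, (∑ x, (cb i).1 x y • fun g => Tm g a x) * fun g => Tm g⁻¹ y b)
      fun i _ => G.F.sum_mem fun a _ => G.F.sum_mem fun b _ => G.F.smul_mem (G.F.sum_mem fun y _ =>
        G.F.mul_mem (G.F.sum_mem fun x _ => G.F.smul_mem (Tm_mem a x) _) (G.inv _ (Tm_mem y b))) _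
    convert this using 1
    funext g
    simp only [Finset.sum_apply, Pi.smul_apply, Pi.mul_apply, smul_eq_mul]
    refine Finset.sum_congr rfl fun i _ => Finset.sum_congr rfl fun a _ => Finset.sum_congr rfl fun b _ =>
      congrArg (_ * ·) (Finset.sum_congr rfl fun y _ => congrArg (· * _) (Finset.sum_congr rfl fun x _ => mul_comm _ _))
  · show LinearMap.toMatrix cb cb (ρ₀ c) = 1
    rw [← LinearMap.toMatrix_id cb]
    congr 1
    refine LinearMap.ext fun X => Subtype.ext ?_
    show Tm c * X.1 * Tm c⁻¹ = X.1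
    rw [X.2 c hc, mul_assoc, (Tm_inv c).2, mul_one]
  · -- the kernel
    have hvV : v ∈ V' := Submodule.subset_span ⟨1, by simp [T_one]⟩
    let bad := {g' : Γ // ∃ c, ∃ hc : c ∈ C₀, χ _ (hconj g' c hc) ≠ χ c hc}
    let U : Submodule k ((Fin d → Fin N) → k) :=
      Submodule.span k (Set.range fun g' : bad => Matrix.mulVec (T g'.1) v)
    have hvU : v ∉ U := by
      let ext : Γ → k := fun c => if hc : c ∈ C₀ then χ c hc else 0
      refine mem_span_of_disjoint_char (fun c => Matrix.mulVecLin (T c)) (C₀ : Set Γ) ext v hv0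
        (fun c hc => ?_) _ (fun (g' : bad) c => if hc : c ∈ C₀ then χ _ (hconj g'.1 c hc) else 0) (fun g' c hc => ?_)
        fun g' => ?_
      · rw [Matrix.mulVecLin_apply, hχ c hc]
        simp only [ext, dif_pos (show c ∈ C₀ from hc)]
      · rw [Matrix.mulVecLin_apply, hchar g'.1 c hc]
        simp only [dif_pos (show c ∈ C₀ from hc)]
      · obtain ⟨c, hc, hne⟩ := g'.2
        refine ⟨c, hc, ?_⟩
        simpa only [ext, dif_pos hc] using hne
    obtain ⟨ξ, hξ, hξU⟩ := Submodule.exists_dual_map_eq_bot_of_notMem hvU inferInstance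
    let A : V' →ₗ[k] V' := ((ξ v)⁻¹ • ξ.comp V'.subtype).smulRight ⟨v, hvV⟩
    have hA : ∀ x, A x = ((ξ v)⁻¹ * ξ x.1) • (⟨v, hvV⟩ : V') := fun x => rfl
    have hAc : ∀ c ∈ C₀, T' c ∘ₗ A = A ∘ₗ T' c := by
      intro c hc
      refine LinearMap.ext fun x => ?_
      obtain ⟨x, hx⟩ := x
      induction hx using Submodule.span_induction with
      | mem y hy =>
        obtain ⟨g', rfl⟩ := hy
        refine Subtype.ext ?_
        show Matrix.mulVec (T c) (((ξ v)⁻¹ * ξ (Matrix.mulVec (T g') v)) • v) =
          ((ξ v)⁻¹ * ξ (Matrix.mulVec (T c) (Matrix.mulVec (T g') v))) • v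
        rw [Matrix.mulVec_smul, hχ c hc, hchar g' c hc, map_smul, smul_smul, smul_eq_mul]
        congr 1
        by_cases hb : ∃ c, ∃ hc : c ∈ C₀, χ _ (hconj g' c hc) ≠ χ c hc
        · have : ξ (Matrix.mulVec (T g') v) = 0 :=
            (Submodule.mem_bot k).1 (hξU ▸ Submodule.mem_map_of_mem (Submodule.subset_span ⟨⟨g', hb⟩, rfl⟩))
          rw [this]; ring
        · push Not at hb
          rw [hb c hc]; ring
      | zero => simp only [map_zero, show (⟨0, zero_mem V'⟩ : V') = 0 from rfl]
      | add a b ha hb iha ihb =>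
        rw [show (⟨a + b, add_mem ha hb⟩ : V') = ⟨a, ha⟩ + ⟨b, hb⟩ from rfl, map_add, map_add, iha, ihb]
      | smul t a ha iha =>
        rw [show (⟨t • a, Submodule.smul_mem _ t ha⟩ : V') = t • ⟨a, ha⟩ from rfl, map_smul, map_smul, iha]
    have hAmem : LinearMap.toMatrix u u A ∈ Cent := fun c hc => by
      simp only [Tm, ← LinearMap.toMatrix_comp u u u, hAc c hc]
    have hcomm := hρ1 g hg _ hAmem
    simp only [Tm, ← LinearMap.toMatrix_comp u u u] at hcomm
    have h2 := congrArg Subtype.val (LinearMap.congr_fun ((LinearMap.toMatrix u u).injective hcomm) ⟨v, hvV⟩)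
    change Matrix.mulVec (T g) (((ξ v)⁻¹ * ξ v) • v) = ((ξ v)⁻¹ * ξ (Matrix.mulVec (T g) v)) • v at h2
    rw [inv_mul_cancel₀ hξ, one_smul] at h2
    refine hstab g fun x hx => ?_
    have hinj : Function.Injective (Matrix.mulVec (Rm g)) := by
      refine Matrix.mulVec_injective_of_isUnit ⟨⟨Rm g, Rm g⁻¹, ?_, ?_⟩, rfl⟩ <;> rw [← Rm_mul] <;> simp [Rm_one]
    set c := (ξ v)⁻¹ * ξ (Matrix.mulVec (T g) v)
    have hgBli : LinearIndependent k fun j => fun r => (Rm g * B) r j := by
      exact hBli.map' (Matrix.mulVecLin (Rm g)) (LinearMap.ker_eq_bot.2 hinj)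
    have hc0 : c ≠ 0 := by
      intro h0
      rw [h0, zero_smul] at h2
      refine hv0 ?_
      have h3 := congrArg (Matrix.mulVec (T g⁻¹)) h2
      rwa [Matrix.mulVec_zero, Matrix.mulVec_mulVec, ← T_mul, inv_mul_cancel, T_one, Matrix.one_mulVec] at h3
    have hspan : Submodule.span k (Set.range fun j => fun r => (Rm g * B) r j) = W := by
      rw [← relKer_eq _ hgBli, ← tpow_plucker]
      show relKer (Matrix.mulVec (T g) v) = W
      rw [h2, relKer_smul hc0, relKer_eq _ hBli, hBspan]
    rw [← hspan]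
    rw [← hBspan] at hx
    induction hx using Submodule.span_induction with
    | mem y hy =>
      obtain ⟨j, rfl⟩ := hy
      exact Submodule.subset_span ⟨j, rfl⟩
    | zero => simp
    | add a b _ _ ha hb => rw [Matrix.mulVec_add]; exact add_mem ha hb
    | smul t a _ ha => rw [Matrix.mulVec_smul]; exact Submodule.smul_mem _ t ha

end Groth.Agent.GroupPtsLib
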