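import Groth.Agent.GroupPtsLib.Chevalley

/-!
# A finitely generated dense subgroup

In characteristic zero a group of rational points has a finitely generated Zariski dense subgroup.
-/

set_option autoImplicit false
universe u

open TopologicalSpace Topology

noncomputable section

namespace Groth.Agent.GroupPtsLib.AlgPts

variable {k : Type u} [Field k] [IsAlgClosed k] {Γ : Type u} [Group Γ] (G : AlgPts k Γ)

omit [Group Γ] in
theorem exists_finite_values_of_domain {B : Type u} [CommRing B] [IsDomain B] [Algebra k B] [Algebra.FiniteType k B]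
    (b : B) : (∃ c, b = algebraMap k B c) ∨ ∃ S : Finset k, ∀ c, c ∉ S → ∃ θ : B →ₐ[k] k, θ b = c := by
  classical
  by_cases hinj : Function.Injective (Polynomial.aeval b : Polynomial k →ₐ[k] B)
  · right
    letI alg : Algebra (Polynomial k) B := (Polynomial.aeval b : Polynomial k →ₐ[k] B).toRingHom.toAlgebra
    haveI : IsScalarTower k (Polynomial k) B := IsScalarTower.of_algebraMap_eq fun c => by
      show _ = Polynomial.aeval b (algebraMap k (Polynomial k) c)
      rw [AlgHom.commutes]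
    haveI : Algebra.FiniteType (Polynomial k) B := Algebra.FiniteType.of_restrictScalars_finiteType k _ _
    haveI : Algebra.FinitePresentation (Polynomial k) B := Algebra.FinitePresentation.of_finiteType.1 inferInstance
    haveI : Module.IsTorsionFree (Polynomial k) B := Module.isTorsionFree_iff_algebraMap_injective.2 hinj
    haveI : Module.Flat (Polynomial k) B := inferInstance
    have hopen : IsOpen (Set.range (PrimeSpectrum.comap (algebraMap (Polynomial k) B))) :=
      (PrimeSpectrum.isOpenMap_comap_of_hasGoingDown_of_finitePresentation).isOpen_range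
    obtain ⟨Q⟩ : Nonempty (PrimeSpectrum B) := ⟨⟨⊥, Ideal.isPrime_bot⟩⟩
    obtain ⟨U, ⟨V, ⟨q, rfl⟩, rfl⟩, hqU, hUr⟩ :=
      PrimeSpectrum.isBasis_basic_opens.exists_subset_of_mem_open
        (show PrimeSpectrum.comap (algebraMap (Polynomial k) B) Q ∈ Set.range _ from ⟨Q, rfl⟩) hopen
    have hq0 : q ≠ 0 := fun h => by simp [h] at hqU
    refine ⟨q.roots.toFinset, fun c hc => ?_⟩
    have hqc : ¬ q.IsRoot c := fun h => hc (Multiset.mem_toFinset.2 ((Polynomial.mem_roots hq0).2 h))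
    let m : Ideal (Polynomial k) := Ideal.span {Polynomial.X - Polynomial.C c}
    haveI hm : m.IsMaximal :=
      PrincipalIdealRing.isMaximal_of_irreducible (Polynomial.irreducible_X_sub_C c)
    obtain ⟨Q', hQ'⟩ := hUr (show (⟨m, hm.isPrime⟩ : PrimeSpectrum (Polynomial k)) ∈ _ from by
      show q ∉ m
      rw [Ideal.mem_span_singleton, Polynomial.dvd_iff_isRoot]
      exact hqc)
    obtain ⟨M, hM, hQM⟩ := Ideal.exists_le_maximal Q'.asIdeal Q'.isPrime.ne_top
    haveI := hM
    letI := Ideal.Quotient.field M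
    haveI : Module.Finite k (B ⧸ M) := finite_of_finite_type_of_isJacobsonRing k _
    let e := AlgEquiv.ofBijective (Algebra.ofId k (B ⧸ M))
      (IsAlgClosed.algebraMap_bijective_of_isIntegral (k := k) (K := B ⧸ M))
    refine ⟨e.symm.toAlgHom.comp (Ideal.Quotient.mkₐ k M), ?_⟩
    have h3 : Polynomial.X - Polynomial.C c ∈ Ideal.comap (algebraMap (Polynomial k) B) Q'.asIdeal := by
      rw [show Ideal.comap (algebraMap (Polynomial k) B) Q'.asIdeal = m from congrArg PrimeSpectrum.asIdeal hQ']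
      exact Ideal.mem_span_singleton_self _
    have h4 : Polynomial.aeval b (Polynomial.X - Polynomial.C c) ∈ Q'.asIdeal := h3
    rw [map_sub, Polynomial.aeval_X, Polynomial.aeval_C] at h4
    have h5 : Ideal.Quotient.mkₐ k M b = e c := by
      show Ideal.Quotient.mk M b = algebraMap k (B ⧸ M) c
      exact (Ideal.Quotient.mk_eq_mk_iff_sub_mem _ _).2 (hQM h4)
    show e.symm (Ideal.Quotient.mkₐ k M b) = c
    rw [h5]
    exact e.symm_apply_apply c
  · left
    rw [injective_iff_map_eq_zero] at hinj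
    push Not at hinj
    obtain ⟨f, hf, hf0⟩ := hinj
    have hint : IsIntegral k b := (show IsAlgebraic k b from ⟨f, hf0, hf⟩).isIntegral
    have hdeg := IsAlgClosed.degree_eq_one_of_irreducible k (minpoly.irreducible hint)
    obtain ⟨c, hc⟩ := minpoly.mem_range_of_degree_eq_one k b hdeg
    exact ⟨c, hc.symm⟩

/-- A regular function which is non-constant on an irreducible closed set takes almost all values there. -/
theorem exists_finite_values {E : Set Γ} (hE : @IsIrreducible Γ G.zar E) (hEc : IsClosed[G.zar] E) {φ : Γ → k}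
    (hφ : φ ∈ G.F) :
    (∃ c, ∀ g ∈ E, φ g = c) ∨ ∃ S : Finset k, ∀ c, c ∉ S → ∃ g ∈ E, φ g = c := by
  classical
  letI := G.zar
  haveI : Algebra.FiniteType k G.F := (Subalgebra.fg_iff_finiteType G.F).1 G.fg
  let P : Ideal G.F := ⨅ g : E, RingHom.ker (G.ev g)
  have hP : ∀ ψ : G.F, ψ ∈ P ↔ ∀ g ∈ E, (ψ : Γ → k) g = 0 := fun ψ => by
    simp only [P, Submodule.mem_iInf, RingHom.mem_ker, Subtype.forall]
    rfl
  have hZ : ∀ ψ : G.F, IsClosed {g | (ψ : Γ → k) g = 0} := fun ψ =>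
    G.isClosed_iff.2 fun x hx => hx ψ fun g hg => hg
  haveI hPp : P.IsPrime := by
    refine ⟨(Ideal.ne_top_iff_one _).2 fun h1 => ?_, fun {a b} hab => ?_⟩
    · obtain ⟨g, hg⟩ := hE.1
      exact one_ne_zero ((hP 1).1 h1 g hg)
    · have hsub : E ⊆ {g | (a : Γ → k) g = 0} ∪ {g | (b : Γ → k) g = 0} := fun g hg => by
        simpa using (hP _).1 hab g hg
      rcases (isPreirreducible_iff_isClosed_union_isClosed.1 hE.2 _ _ (hZ a) (hZ b) hsub) with h | h
      · exact Or.inl ((hP a).2 h)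
      · exact Or.inr ((hP b).2 h)
  haveI : Algebra.FiniteType k (G.F ⧸ P) :=
    Algebra.FiniteType.of_surjective (Ideal.Quotient.mkₐ k P) Ideal.Quotient.mk_surjective
  haveI : IsDomain (G.F ⧸ P) := Ideal.Quotient.isDomain P
  rcases exists_finite_values_of_domain (k := k) (Ideal.Quotient.mkₐ k P ⟨φ, hφ⟩) with ⟨c, hc⟩ | ⟨S, hS⟩
  · left
    refine ⟨c, fun g hg => ?_⟩
    have h1 : (⟨φ, hφ⟩ : G.F) - algebraMap k G.F c ∈ P := by
      rw [← Ideal.Quotient.mk_eq_mk_iff_sub_mem]
      exact hc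
    have := (hP _).1 h1 g hg
    simpa [sub_eq_zero] using this
  · refine Or.inr ⟨S, fun c hc => ?_⟩
    obtain ⟨θ, hθ⟩ := hS c hc
    obtain ⟨g, hg⟩ := G.point (θ.comp (Ideal.Quotient.mkₐ k P))
    refine ⟨g, (G.isClosed_iff.1 hEc) g fun ψ hψ => ?_, ?_⟩
    · rw [← hg ψ, AlgHom.comp_apply,
        show Ideal.Quotient.mkₐ k P ψ = 0 from Ideal.Quotient.eq_zero_iff_mem.2 ((hP ψ).2 hψ), map_zero]
    · rw [← hθ]
      exact (hg ⟨φ, hφ⟩).symm

/-- An irreducible closed set through `1` on which all elements have a power in a normal closed subgroup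
lies in that subgroup. -/
theorem subset_of_torsion [CharZero k] (C₀ : Subgroup Γ) (hclosed : IsClosed[G.zar] (C₀ : Set Γ)) (hnormal : C₀.Normal)
    {E : Set Γ} (hE : @IsIrreducible Γ G.zar E) (hEc : IsClosed[G.zar] E) (h1 : (1 : Γ) ∈ E)
    (htors : ∀ g ∈ E, ∃ n, 0 < n ∧ g ^ n ∈ C₀) : E ⊆ C₀ := by
  classical
  obtain ⟨D, ρ, htr, hC, hker⟩ := exists_rep G C₀ hclosed hnormal
  have hfin : ∀ g ∈ E, ∃ n, 0 < n ∧ ρ g ^ n = 1 := fun g hg => by
    obtain ⟨n, hn, hgn⟩ := htors g hg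
    exact ⟨n, hn, by rw [← map_pow]; exact hC _ hgn⟩
  rcases G.exists_finite_values hE hEc htr with ⟨c, hc⟩ | ⟨S, hS⟩
  · intro g hg
    obtain ⟨n, hn, hgn⟩ := hfin g hg
    refine hker g ((trace_of_finite_order hn hgn (m := D) ?_).2 rfl)
    rw [show (ρ g).trace = c from hc g hg, ← show (ρ 1).trace = c from hc 1 h1, map_one, Matrix.trace_one,
      Fintype.card_fin]
  · exfalso
    have hcof : Set.Infinite {m : ℕ | D < m} := Set.Ioi_infinite D
    obtain ⟨m, hm, hmS⟩ : ∃ m : ℕ, D < m ∧ (m : k) ∉ S := by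
      by_contra! hall
      exact hcof ((S.finite_toSet.preimage (Nat.cast_injective.injOn)).subset fun m hm => hall m hm)
    obtain ⟨g, hg, hgm⟩ := hS _ hmS
    obtain ⟨n, hn, hgn⟩ := hfin g hg
    have := (trace_of_finite_order hn hgn hgm).1
    omega

/-- There is a finitely generated dense subgroup. -/
theorem exists_fg_dense [CharZero k] :
    ∃ Φ : Subgroup Γ, Φ.FG ∧ ∀ φ : G.F, (∀ g ∈ Φ, (φ : Γ → k) g = 0) → φ = 0 := by
  classical
  letI := G.zar
  haveI := G.noetherianSpace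
  let cl : Finset Γ → Set Γ := fun s => closure (Subgroup.closure (s : Set Γ) : Set Γ)
  have hmono : ∀ {s t : Finset Γ}, s ⊆ t → cl s ⊆ cl t := fun h =>
    closure_mono (SetLike.coe_subset_coe.2 (Subgroup.closure_mono (Finset.coe_subset.2 h)))
  have hone : ∀ s, (1 : Γ) ∈ cl s := fun s => subset_closure (one_mem _)
  have hmul : ∀ s, ∀ x ∈ cl s, ∀ y ∈ cl s, x * y ∈ cl s := by
    intro s x hx y hy
    have h1 : ∀ a ∈ Subgroup.closure (s : Set Γ), a * y ∈ cl s := fun a ha =>
      map_mem_closure (G.continuous_mul_left' a) hy fun b hb => mul_mem ha hb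
    have h2 := map_mem_closure (t := cl s) (G.continuous_mul_right' y) hx h1
    rwa [(isClosed_closure : IsClosed (cl s)).closure_eq] at h2
  have hinvcl : ∀ s, ∀ x ∈ cl s, x⁻¹ ∈ cl s := fun s x hx =>
    map_mem_closure G.continuous_inv' hx fun a ha => inv_mem ha
  have htr : ∀ {E : Set Γ}, IsIrreducible E → IsClosed E → ∀ a : Γ,
      IsIrreducible ((fun x => a * x) '' E) ∧ IsClosed ((fun x => a * x) '' E) := by
    intro E hE hEc a
    refine ⟨hE.image _ (G.continuous_mul_left' a).continuousOn, ?_⟩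
    rw [show (fun x => a * x) '' E = (fun x => a⁻¹ * x) ⁻¹' E from Set.ext fun x => by
      constructor
      · rintro ⟨y, hy, rfl⟩; simpa using hy
      · intro hx; exact ⟨a⁻¹ * x, hx, by simp⟩]
    exact hEc.preimage (G.continuous_mul_left' a⁻¹)
  -- products of irreducible sets
  have hprod : ∀ {C C' : Set Γ}, IsIrreducible C → IsIrreducible C' →
      IsIrreducible (closure (Set.image2 (· * ·) C C')) := by
    intro C C' hC hC'
    refine IsIrreducible.closure ⟨hC.1.image2 hC'.1, fun U V hU hV hUne hVne => ?_⟩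
    obtain ⟨_, ⟨x, hx, y, hy, rfl⟩, hzU⟩ := hUne
    obtain ⟨_, ⟨x', hx', y', hy', rfl⟩, hzV⟩ := hVne
    let O : Set Γ → Set Γ := fun W => ⋃ c ∈ C', (fun a => a * c) ⁻¹' W
    have hO : ∀ W, IsOpen W → IsOpen (O W) := fun W hW =>
      isOpen_biUnion fun c _ => hW.preimage (G.continuous_mul_right' c)
    obtain ⟨a, haC, haU, haV⟩ := hC.2 (O U) (O V) (hO U hU) (hO V hV)
      ⟨x, hx, Set.mem_biUnion hy hzU⟩ ⟨x', hx', Set.mem_biUnion hy' hzV⟩
    simp only [O, Set.mem_iUnion, Set.mem_preimage] at haU haV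
    obtain ⟨c, hc, hcU⟩ := haU
    obtain ⟨c', hc', hcV⟩ := haV
    obtain ⟨b, hbC, hbU, hbV⟩ := hC'.2 ((fun z => a * z) ⁻¹' U) ((fun z => a * z) ⁻¹' V)
      (hU.preimage (G.continuous_mul_left' a)) (hV.preimage (G.continuous_mul_left' a)) ⟨c, hc, hcU⟩ ⟨c', hc', hcV⟩
    exact ⟨a * b, ⟨a, haC, b, hbC, rfl⟩, hbU, hbV⟩
  -- maximal height
  obtain ⟨N, hN⟩ := G.exists_dim_bound
  let Ht : Set ℕ∞ := {t | ∃ (s : Finset Γ) (C : IrreducibleCloseds Γ),
    (1 : Γ) ∈ (C : Set Γ) ∧ (C : Set Γ) ⊆ cl s ∧ Order.height C = t}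
  have hHt : Ht.Nonempty := by
    refine ⟨_, ∅, ⟨closure {(1 : Γ)}, isIrreducible_singleton.closure, isClosed_closure⟩, ?_, ?_, rfl⟩
    · exact subset_closure rfl
    · exact closure_mono (Set.singleton_subset_iff.2 (one_mem _))
  have hfinite : Ht.Finite :=
    ((Set.finite_Iic N).image ((↑) : ℕ → ℕ∞)).subset (by
      rintro _ ⟨s, C, -, -, rfl⟩
      obtain ⟨m, hm⟩ := ENat.ne_top_iff_exists.1 (ne_top_of_le_ne_top (ENat.natCast_ne_top N) (hN C))
      exact ⟨m, by have := hN C; rw [← hm] at this; exact Nat.cast_le.1 this, hm⟩)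
  obtain ⟨t, ht, htmax⟩ := Set.exists_max_image Ht id hfinite hHt
  obtain ⟨s₀, C, hC1, hCs, rfl⟩ := ht
  have hmax : ∀ (s : Finset Γ), s₀ ⊆ s → ∀ D : Set Γ, IsIrreducible D → IsClosed D → (C : Set Γ) ⊆ D → D ⊆ cl s →
      D = C := by
    intro s _ D hD hDc hCD hDs
    by_contra hne
    let D' : IrreducibleCloseds Γ := ⟨D, hD, hDc⟩
    have hlt : C < D' := lt_of_le_of_ne hCD fun h => hne (congrArg (fun E : IrreducibleCloseds Γ => (E : Set Γ)) h).symm
    have h1 := Order.height_strictMono hlt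
      (lt_of_le_of_lt (hN C) (ENat.natCast_lt_top N))
    exact (not_le.2 h1) (htmax _ ⟨s, D', hCD hC1, hDs, rfl⟩)
  have hCirr : IsIrreducible (C : Set Γ) := C.isIrreducible
  have hCcl : IsClosed (C : Set Γ) := C.isClosed
  -- products with `C`
  have habs : ∀ (s : Finset Γ), s₀ ⊆ s → ∀ D : Set Γ, IsIrreducible D → (1 : Γ) ∈ D → D ⊆ cl s →
      D ⊆ (C : Set Γ) := by
    intro s hs D hD hD1 hDs
    have h1 : closure (Set.image2 (· * ·) D (C : Set Γ)) ⊆ cl s :=
      closure_minimal (by rintro _ ⟨x, hx, y, hy, rfl⟩; exact hmul s x (hDs hx) y (hmono hs (hCs hy))) isClosed_closure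
    have h2 := hmax s hs _ (hprod hD hCirr) isClosed_closure
      (fun y hy => subset_closure ⟨1, hD1, y, hy, one_mul y⟩) h1
    exact fun x hx => h2 ▸ subset_closure ⟨x, hx, 1, hC1, mul_one x⟩
  have hCmul : ∀ x ∈ (C : Set Γ), ∀ y ∈ (C : Set Γ), x * y ∈ (C : Set Γ) := fun x hx y hy => by
    have h1 : Set.image2 (· * ·) (C : Set Γ) (C : Set Γ) ⊆ cl s₀ := by
      rintro _ ⟨a, ha, b, hb, rfl⟩; exact hmul s₀ a (hCs ha) b (hCs hb)
    exact habs s₀ subset_rfl _ (hprod hCirr hCirr) (subset_closure ⟨1, hC1, 1, hC1, one_mul 1⟩)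
      (closure_minimal h1 isClosed_closure) (subset_closure ⟨x, hx, y, hy, rfl⟩)
  let C₀ : Subgroup Γ :=
    { carrier := C
      one_mem' := hC1
      mul_mem' := fun {a b} ha hb => hCmul a ha b hb
      inv_mem' := fun {a} ha => habs s₀ subset_rfl ((fun x : Γ => x⁻¹) '' (C : Set Γ))
        (hCirr.image _ G.continuous_inv'.continuousOn) ⟨1, hC1, inv_one⟩
        (by rintro _ ⟨x, hx, rfl⟩; exact hinvcl _ x (hCs hx)) ⟨a, ha, rfl⟩ }
  have hnormal : C₀.Normal := by
    refine ⟨fun x hx g => ?_⟩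
    refine habs (insert g s₀) (Finset.subset_insert _ _) ((fun y => g * y * g⁻¹) '' (C : Set Γ))
      (hCirr.image _ ((G.continuous_mul_right' g⁻¹).comp (G.continuous_mul_left' g)).continuousOn)
      ⟨1, hC1, by simp⟩ ?_ ⟨x, hx, rfl⟩
    rintro _ ⟨y, hy, rfl⟩
    have hg : g ∈ cl (insert g s₀) := subset_closure (Subgroup.subset_closure (by simp))
    exact hmul _ _ (hmul _ _ hg _ (hmono (Finset.subset_insert _ _) (hCs hy))) _ (hinvcl _ _ hg)
  -- every element has a power in `C₀`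
  have htors : ∀ g : Γ, ∃ n, 0 < n ∧ g ^ n ∈ C₀ := by
    intro g
    set s := insert g s₀ with hs
    have hgs : g ∈ cl s := subset_closure (Subgroup.subset_closure (by simp [hs]))
    obtain ⟨P, hPfin, hPc, hPi, hPeq⟩ :=
      NoetherianSpace.exists_finite_set_isClosed_irreducible (α := Γ) (isClosed_closure : IsClosed (cl s))
    have hpow : ∀ j : ℕ, g ^ j ∈ cl s := fun j => by
      induction j with
      | zero => simpa using hone s
      | succ j ih => rw [pow_succ]; exact hmul s _ ih _ hgs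
    have hin : ∀ j : ℕ, (fun x => g ^ j * x) '' (C : Set Γ) ∈ P := by
      intro j
      obtain ⟨hi, hc⟩ := htr hCirr hCcl (g ^ j)
      have hsub : (fun x => g ^ j * x) '' (C : Set Γ) ⊆ ⋃₀ P := by
        rw [← hPeq]; rintro _ ⟨x, hx, rfl⟩
        exact hmul s _ (hpow j) _ (hmono (Finset.subset_insert _ _) (hCs hx))
      obtain ⟨D, hDP, hD⟩ := isIrreducible_iff_sUnion_isClosed.1 hi hPfin.toFinset
        (fun D hD => hPc D (hPfin.mem_toFinset.1 hD)) (by rwa [Set.Finite.coe_toFinset])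
      rw [Set.Finite.mem_toFinset] at hDP
      obtain ⟨hi', hc'⟩ := htr (hPi D hDP) (hPc D hDP) (g ^ j)⁻¹
      have h1 : (fun x => (g ^ j)⁻¹ * x) '' D = (C : Set Γ) := by
        refine hmax s (Finset.subset_insert _ _) _ hi' hc' (fun x hx => ⟨g ^ j * x, hD ⟨x, hx, rfl⟩, by simp⟩) ?_
        rintro _ ⟨x, hx, rfl⟩
        exact hmul s _ (hinvcl s _ (hpow j)) _ (by rw [show cl s = ⋃₀ P from hPeq]; exact Set.mem_sUnion_of_mem hx hDP)
      rw [← h1, Set.image_image]
      simpa using hDP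
    haveI : Finite P := hPfin.to_subtype
    obtain ⟨i, j, hij, he⟩ := Finite.exists_ne_map_eq_of_infinite fun j : ℕ => (⟨_, hin j⟩ : P)
    have he' : (fun x => g ^ i * x) '' (C : Set Γ) = (fun x => g ^ j * x) '' (C : Set Γ) := congrArg Subtype.val he
    wlog hlt : i < j generalizing i j with H
    · exact H j i hij.symm he.symm he'.symm (by omega)
    obtain ⟨x, hx, hxe⟩ : g ^ j ∈ (fun x => g ^ i * x) '' (C : Set Γ) := he' ▸ ⟨1, hC1, mul_one _⟩
    refine ⟨j - i, by omega, ?_⟩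
    have h2 : x = g ^ (j - i) := by
      refine mul_left_cancel (a := g ^ i) ?_
      rw [← pow_add, Nat.add_sub_cancel' hlt.le]
      exact hxe
    exact h2 ▸ hx
  -- cover the group
  obtain ⟨P, hPfin, hPc, hPi, hPeq⟩ :=
    NoetherianSpace.exists_finite_set_isClosed_irreducible (α := Γ) isClosed_univ
  choose rep hrep using fun D : hPfin.toFinset => (hPi D.1 (hPfin.mem_toFinset.1 D.2)).1
  let s' := s₀ ∪ Finset.univ.image rep
  refine ⟨Subgroup.closure (s' : Set Γ), ⟨s', rfl⟩, fun φ hφ => Subtype.ext (funext fun x => ?_)⟩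
  have hx : x ∈ cl s' := by
    obtain ⟨D, hDP, hxD⟩ : x ∈ ⋃₀ P := hPeq ▸ Set.mem_univ x
    set a := rep ⟨D, hPfin.mem_toFinset.2 hDP⟩ with ha
    have haD : a ∈ D := hrep ⟨D, hPfin.mem_toFinset.2 hDP⟩
    obtain ⟨hi, hc⟩ := htr (hPi D hDP) (hPc D hDP) a⁻¹
    have hmem : a⁻¹ * x ∈ (C₀ : Set Γ) :=
      G.subset_of_torsion C₀ hCcl hnormal hi hc ⟨a, haD, by simp⟩ (fun g _ => htors g) ⟨x, hxD, rfl⟩
    have has : a ∈ cl s' := subset_closure (Subgroup.subset_closure (by
      simp only [s', Finset.coe_union, Set.mem_union, Finset.coe_image, Finset.coe_univ, Set.image_univ]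
      exact Or.inr ⟨_, ha.symm⟩))
    have := hmul s' a has _ (hmono Finset.subset_union_left (hCs hmem))
    rwa [mul_inv_cancel_left] at this
  exact (show (φ : Γ → k) x = 0 from
    (closure_minimal (fun g hg => hφ g hg)
      (G.isClosed_iff.2 fun y hy => hy φ fun g hg => hg : IsClosed {g | (φ : Γ → k) g = 0})) hx)

end Groth.Agent.GroupPtsLib.AlgPts
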