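import Mathlib

/-! Traces of matrices of finite order in characteristic zero. -/

set_option autoImplicit false
universe u

open Polynomial

noncomputable section

namespace Groth.Agent.GroupPtsLib

variable {k : Type u} [Field k] [IsAlgClosed k] [CharZero k] {D : ℕ}

theorem pow_root_charpoly {M : Matrix (Fin D) (Fin D) k} {n : ℕ} (hM : M ^ n = 1) {μ : k}
    (hμ : M.charpoly.IsRoot μ) : μ ^ n = 1 := by
  rw [← Matrix.mem_spectrum_iff_isRoot_charpoly] at hμ
  have h := spectrum.pow_mem_pow M n hμ
  rw [hM] at h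
  by_contra hne
  refine absurd h ?_
  rw [spectrum.mem_iff, not_not, ← map_one (algebraMap k (Matrix (Fin D) (Fin D) k)), ← map_sub]
  exact (sub_ne_zero.2 hne).isUnit.map _

theorem sum_roots_of_unity {n : ℕ} (hn : 0 < n) {s : Multiset k} (hs : ∀ μ ∈ s, μ ^ n = 1) {m : ℕ}
    (hm : s.sum = (m : k)) : m ≤ Multiset.card s ∧ (m = Multiset.card s → ∀ μ ∈ s, μ = 1) := by
  classical
  let K : IntermediateField ℚ k := IntermediateField.adjoin ℚ ((s.toFinset : Finset k) : Set k)
  have halg : ∀ x ∈ ((s.toFinset : Finset k) : Set k), IsIntegral ℚ x := fun x hx => by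
    refine ⟨Polynomial.X ^ n - Polynomial.C 1, Polynomial.monic_X_pow_sub_C 1 hn.ne', ?_⟩
    simp [hs x (Multiset.mem_toFinset.1 hx)]
  haveI : Algebra.IsAlgebraic ℚ K := by
    convert IntermediateField.isAlgebraic_adjoin halg using 1
    all_goals first | exact Subsingleton.elim _ _ | rfl
  let σ : K →ₐ[ℚ] ℂ := IsAlgClosed.lift
  have hmem : ∀ μ ∈ s, μ ∈ K := fun μ hμ => IntermediateField.subset_adjoin ℚ _ (Multiset.mem_toFinset.2 hμ)
  let t : Multiset K := s.attach.map fun μ => ⟨μ.1, hmem μ.1 μ.2⟩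
  have ht : t.map (algebraMap K k) = s := by
    rw [Multiset.map_map]
    exact s.attach_map_val
  have htsum : t.sum = (m : K) := (algebraMap K k).injective (by rw [map_multiset_sum, ht, hm, map_natCast])
  have hunit : ∀ z ∈ t.map σ, ‖z‖ = 1 := fun z hz => by
    obtain ⟨y, hy, rfl⟩ := Multiset.mem_map.1 hz
    refine Complex.norm_eq_one_of_pow_eq_one ?_ hn.ne'
    have hy' : y ^ n = 1 := (algebraMap K k).injective (by
      rw [map_pow, map_one]
      exact hs _ (ht ▸ Multiset.mem_map_of_mem _ hy))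
    rw [← map_pow, hy', map_one]
  have hsum : (t.map σ).sum = (m : ℂ) := by rw [← map_multiset_sum, htsum, map_natCast]
  have hcard : Multiset.card (t.map σ) = Multiset.card s := by simp [t]
  have key : ∀ u : Multiset ℂ, (∀ z ∈ u, ‖z‖ = 1) → u.sum.re ≤ Multiset.card u ∧
      ((Multiset.card u : ℝ) ≤ u.sum.re → ∀ z ∈ u, z = 1) := by
    intro u hu
    induction u using Multiset.induction_on with
    | empty => simp
    | cons z u ih =>
      obtain ⟨h1, h2⟩ := ih fun w hw => hu w (Multiset.mem_cons_of_mem hw)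
      have hz := hu z (Multiset.mem_cons_self z u)
      have hre : z.re ≤ 1 := hz ▸ Complex.re_le_norm z
      rw [Multiset.sum_cons, Complex.add_re, Multiset.card_cons]
      push_cast
      refine ⟨by linarith, fun hle w hw => ?_⟩
      rcases Multiset.mem_cons.1 hw with rfl | hw
      · have hre1 : w.re = 1 := by linarith
        have h3 : Complex.normSq w = 1 := by rw [← Complex.sq_norm, hz, one_pow]
        rw [Complex.normSq_apply, hre1] at h3
        have : w.im = 0 := mul_self_eq_zero.1 (by linarith)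
        exact Complex.ext (by simpa using hre1) (by simpa using this)
      · exact h2 (by linarith) w hw
  obtain ⟨h1, h2⟩ := key _ hunit
  rw [hsum, hcard, Complex.natCast_re] at h1 h2
  refine ⟨by exact_mod_cast h1, fun he μ hμ => ?_⟩
  have h3 := h2 (by rw [he]) (σ ⟨μ, hmem μ hμ⟩) (Multiset.mem_map_of_mem _ (Multiset.mem_map.2
    ⟨⟨μ, hμ⟩, Multiset.mem_attach _ _, rfl⟩))
  have h4 : (⟨μ, hmem μ hμ⟩ : K) = 1 := σ.injective (h3.trans (map_one σ).symm)
  exact congrArg Subtype.val h4

/-- An integral trace of a matrix of finite order is at most the size, with equality only for the identity. -/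
theorem trace_of_finite_order {M : Matrix (Fin D) (Fin D) k} {n : ℕ} (hn : 0 < n) (hM : M ^ n = 1) {m : ℕ}
    (hm : M.trace = (m : k)) : m ≤ D ∧ (m = D → M = 1) := by
  have hsplit : M.charpoly.Splits := IsAlgClosed.splits _
  have hcard : Multiset.card M.charpoly.roots = D := by
    rw [IsAlgClosed.card_roots_eq_natDegree, Matrix.charpoly_natDegree_eq_dim, Fintype.card_fin]
  obtain ⟨h1, h2⟩ := sum_roots_of_unity hn (s := M.charpoly.roots)
    (fun μ hμ => pow_root_charpoly hM (Polynomial.isRoot_of_mem_roots hμ))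
    (by rw [← Matrix.trace_eq_sum_roots_charpoly]; exact hm)
  rw [hcard] at h1 h2
  refine ⟨h1, fun he => ?_⟩
  have hall : M.charpoly.roots = Multiset.replicate D 1 := Multiset.eq_replicate.2 ⟨hcard, h2 he⟩
  have hcp : M.charpoly = (X - C 1) ^ D := by
    conv_lhs => rw [hsplit.eq_prod_roots_of_monic M.charpoly_monic, hall]
    simp
  have hd1 : minpoly k M ∣ (X - C 1) ^ D := hcp ▸ Matrix.minpoly_dvd_charpoly M
  have hd2 : minpoly k M ∣ X ^ n - C 1 := minpoly.dvd k M (by simp [hM])
  have hsq : Squarefree (minpoly k M) :=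
    (Polynomial.separable_X_pow_sub_C 1 (Nat.cast_ne_zero.2 hn.ne') one_ne_zero).squarefree.squarefree_of_dvd hd2
  have hd3 : minpoly k M ∣ X - C 1 := by
    rcases Nat.eq_zero_or_pos D with rfl | hD
    · exact (dvd_of_eq rfl).trans (hd1.trans (by simp))
    · exact (hsq.dvd_pow_iff_dvd hD.ne').1 hd1
  have h0 : aeval M (X - C (1 : k)) = 0 := by
    obtain ⟨c, hc⟩ := hd3
    rw [hc, map_mul, minpoly.aeval, zero_mul]
  simpa [sub_eq_zero] using h0

end Groth.Agent.GroupPtsLib
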